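import Mathlib.RingTheory.MvPowerSeries.Substitution
import Mathlib.RingTheory.MvPowerSeries.Equiv
import Mathlib.RingTheory.AdicCompletion.Completeness
import Mathlib.RingTheory.AdicCompletion.Functoriality
import Mathlib.RingTheory.Henselian
import Mathlib.RingTheory.OrzechProperty
import Mathlib.Tactic

/-!
# Substitutions of `R[[X_σ]]` which are automorphisms; cube roots

* `exists_algEquiv`: if `a : σ → R[[X_σ]]` have zero constant coefficients and generate the same ideal as
  the variables, then `X i ↦ a i` is an automorphism of `R[[X_σ]]` (`σ` finite, `R` any commutative ring).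
* `exists_cube_root`: cube roots of `1 + z`, `z` without constant term, when `3` is a unit.
-/

set_option autoImplicit false
universe u v

namespace K753.InvFun

open MvPowerSeries

variable {σ : Type v} [Finite σ] {R : Type u} [CommRing R]

/-- the ideal generated by the variables -/
noncomputable abbrev J (σ : Type v) (R : Type u) [CommRing R] : Ideal (MvPowerSeries σ R) :=
  Ideal.span (Set.range (X : σ → MvPowerSeries σ R))

omit [Finite σ] in
theorem constantCoeff_eq_zero_of_mem {f : MvPowerSeries σ R} (h : f ∈ J σ R) :
    constantCoeff f = 0 := by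
  have h1 : J σ R ≤ RingHom.ker (constantCoeff (σ := σ) (R := R)) := by
    rw [Ideal.span_le]
    rintro _ ⟨i, rfl⟩
    simp [RingHom.mem_ker]
  exact h1 h

theorem mem_of_constantCoeff_eq_zero {f : MvPowerSeries σ R} (h : constantCoeff f = 0) :
    f ∈ J σ R := by
  classical
  cases nonempty_fintype σ
  have hc : ∀ m : σ →₀ ℕ, ∃ c : Option σ, (m ≠ 0 → ∃ i, c = some i ∧ m i ≠ 0) := by
    intro m
    by_cases hm : m = 0
    · exact ⟨none, fun h => absurd hm h⟩
    · obtain ⟨i, hi⟩ := Finsupp.ne_iff.1 hm
      exact ⟨some i, fun _ => ⟨i, rfl, hi⟩⟩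
  choose c hc using hc
  let g : σ → MvPowerSeries σ R := fun i m =>
    if c (m + Finsupp.single i 1) = some i then coeff (m + Finsupp.single i 1) f else 0
  have hg : ∀ i m, coeff m (g i) =
      if c (m + Finsupp.single i 1) = some i then coeff (m + Finsupp.single i 1) f else 0 :=
    fun i m => rfl
  have hf : f = ∑ i : σ, X i * g i := by
    ext m
    rw [map_sum]
    have h1 : ∀ i, coeff m (X i * g i) = if m i ≠ 0 ∧ c m = some i then coeff m f else 0 := by
      intro i
      rw [X, coeff_monomial_mul, one_mul, hg]
      by_cases hi : m i = 0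
      · rw [if_neg, if_neg]
        · simp [hi]
        · intro h'
          have := h' i
          rw [Finsupp.single_eq_same, hi] at this
          omega
      · have hle : Finsupp.single i 1 ≤ m := by
          rw [Finsupp.single_le_iff]; omega
        rw [if_pos hle, tsub_add_cancel_of_le hle]
        simp [hi]
    rw [Finset.sum_congr rfl (fun i _ => h1 i)]
    by_cases hm : m = 0
    · subst hm
      simp only [Finsupp.coe_zero, Pi.zero_apply, ne_eq, not_true_eq_false, false_and, if_false,
        Finset.sum_const_zero]
      rw [coeff_zero_eq_constantCoeff_apply, h]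
    · obtain ⟨i, hi, hi'⟩ := hc m hm
      rw [Finset.sum_eq_single i]
      · rw [if_pos ⟨hi', hi⟩]
      · intro j _ hj
        rw [if_neg]
        rintro ⟨-, h'⟩
        rw [hi] at h'
        exact hj (Option.some.inj h').symm
      · intro h'
        exact absurd (Finset.mem_univ i) h'
  rw [hf]
  exact Ideal.sum_mem _ (fun i _ => Ideal.mul_mem_right _ _ (Ideal.subset_span ⟨i, rfl⟩))

theorem mem_J_iff {f : MvPowerSeries σ R} : f ∈ J σ R ↔ constantCoeff f = 0 :=
  ⟨constantCoeff_eq_zero_of_mem, mem_of_constantCoeff_eq_zero⟩

variable {a : σ → MvPowerSeries σ R}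

theorem substAlgHom_surjective (ha : ∀ i, constantCoeff (a i) = 0)
    (hJ : ∀ i, (X i : MvPowerSeries σ R) ∈ Ideal.span (Set.range a)) :
    Function.Surjective (substAlgHom (R := R) (hasSubst_of_constantCoeff_zero ha)) := by
  set φ := substAlgHom (R := R) (hasSubst_of_constantCoeff_zero ha) with hφ
  have hspan : Ideal.span (Set.range a) = J σ R := by
    apply le_antisymm
    · rw [Ideal.span_le]
      rintro _ ⟨i, rfl⟩
      exact mem_of_constantCoeff_eq_zero (ha i)
    · rw [Ideal.span_le]
      rintro _ ⟨i, rfl⟩
      exact hJ i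
  have h1 : (J σ R).map (φ : MvPowerSeries σ R →+* MvPowerSeries σ R) = J σ R := by
    conv_rhs => rw [← hspan]
    rw [J, Ideal.map_span, ← Set.range_comp]
    congr 2
    ext1 i
    change φ (X i) = a i
    rw [hφ, substAlgHom_X]
  have hAC : IsAdicComplete (J σ R) (MvPowerSeries σ R) := inferInstance
  have : IsHausdorff ((J σ R).map (φ : MvPowerSeries σ R →+* MvPowerSeries σ R))
      (MvPowerSeries σ R) := by
    rw [h1]; infer_instance
  refine surjective_of_mk_map_comp_surjective (I := J σ R)
    (φ : MvPowerSeries σ R →+* MvPowerSeries σ R) ?_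
  intro b
  obtain ⟨b, rfl⟩ := Ideal.Quotient.mk_surjective b
  refine ⟨C (constantCoeff b), ?_⟩
  rw [RingHom.comp_apply, Ideal.Quotient.eq, h1, mem_J_iff]
  have : φ (C (constantCoeff b)) = C (constantCoeff b) := φ.commutes (constantCoeff b)
  change constantCoeff (φ (C (constantCoeff b)) - b) = 0
  rw [this, map_sub, constantCoeff_C, sub_self]

theorem substAlgHom_injective (ha : ∀ i, constantCoeff (a i) = 0)
    (hs : Function.Surjective (substAlgHom (R := R) (hasSubst_of_constantCoeff_zero ha))) :
    Function.Injective (substAlgHom (R := R) (hasSubst_of_constantCoeff_zero ha)) := by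
  classical
  set φ := substAlgHom (R := R) (hasSubst_of_constantCoeff_zero ha) with hφ
  have hsub : ∀ f, φ f = subst a f := fun f => by rw [hφ, coe_substAlgHom]
  have key : ∀ (n : ℕ) (f : MvPowerSeries σ R), truncTotal n (φ f) =
      truncTotal n (φ ((truncTotal n f : MvPolynomial σ R) : MvPowerSeries σ R)) := by
    intro n f
    rw [hsub, hsub]
    exact truncTotal_subst_eq_truncTotal_truncTotal_subst ha
  -- the finite module of polynomials of degree `< n`
  have hinj : ∀ (n : ℕ) (f : MvPowerSeries σ R), φ f = 0 → truncTotal n f = 0 := by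
    intro n f hf
    let N : Submodule R (MvPolynomial σ R) :=
      Submodule.span R ((fun m : σ →₀ ℕ => MvPolynomial.monomial m (1 : R)) ''
        {m : σ →₀ ℕ | m.degree < n})
    have hfin : Module.Finite R N := by
      apply Module.Finite.span_of_finite
      apply Set.Finite.image
      exact Finsupp.finite_of_degree_lt n
    have hmem : ∀ g : MvPowerSeries σ R, truncTotal n g ∈ N := by
      intro g
      rw [MvPolynomial.as_sum (truncTotal n g)]
      refine Submodule.sum_mem _ (fun m hm => ?_)
      have hdeg : m.degree < n := by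
        by_contra hcon
        rw [MvPolynomial.mem_support_iff] at hm
        exact hm (coeff_truncTotal_eq_zero _ (not_lt.1 hcon))
      have h1 : MvPolynomial.monomial m (MvPolynomial.coeff m (truncTotal n g)) =
          MvPolynomial.coeff m (truncTotal n g) • MvPolynomial.monomial m (1 : R) := by
        rw [MvPolynomial.smul_monomial, smul_eq_mul, mul_one]
      rw [h1]
      exact Submodule.smul_mem _ _ (Submodule.subset_span ⟨m, hdeg, rfl⟩)
    have htr : ∀ p ∈ N, truncTotal n (p : MvPowerSeries σ R) = p := by
      intro p hp
      induction hp using Submodule.span_induction with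
      | mem x hx =>
        obtain ⟨m, hm, rfl⟩ := hx
        ext m'
        by_cases h : m'.degree < n
        · rw [coeff_truncTotal _ h, MvPolynomial.coeff_coe]
        · rw [coeff_truncTotal_eq_zero _ (not_lt.1 h), MvPolynomial.coeff_monomial, if_neg]
          rintro rfl
          exact h hm
      | zero => simp
      | add x y _ _ hx hy => rw [MvPolynomial.coe_add, map_add, hx, hy]
      | smul r x _ hx => rw [MvPolynomial.coe_smul, map_smul, hx]
    let T : N →ₗ[R] N :=
      { toFun := fun p => ⟨truncTotal n (φ ((p : MvPolynomial σ R) : MvPowerSeries σ R)), hmem _⟩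
        map_add' := by
          intro x y
          apply Subtype.ext
          simp only [Submodule.coe_add, MvPolynomial.coe_add, map_add]
        map_smul' := by
          intro r x
          apply Subtype.ext
          simp only [Submodule.coe_smul, MvPolynomial.coe_smul, map_smul, RingHom.id_apply] }
    have hT : ∀ g : MvPowerSeries σ R, T ⟨truncTotal n g, hmem g⟩ =
        ⟨truncTotal n (φ g), hmem _⟩ := by
      intro g
      apply Subtype.ext
      exact (key n g).symm
    have hTs : Function.Surjective T := by
      rintro ⟨q, hq⟩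
      obtain ⟨g, hg⟩ := hs (q : MvPowerSeries σ R)
      refine ⟨⟨truncTotal n g, hmem g⟩, ?_⟩
      rw [hT]
      apply Subtype.ext
      change truncTotal n (φ g) = q
      rw [hg, htr q hq]
    have hTi := OrzechProperty.injective_of_surjective_endomorphism T hTs
    have h2 : (⟨truncTotal n f, hmem f⟩ : N) = 0 := by
      apply hTi
      rw [hT, map_zero]
      apply Subtype.ext
      change truncTotal n (φ f) = 0
      rw [hf, map_zero]
    exact congrArg Subtype.val h2
  rw [injective_iff_map_eq_zero]
  intro f hf
  ext m
  have h1 := congrArg (MvPolynomial.coeff m) (hinj (m.degree + 1) f hf)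
  rw [coeff_truncTotal _ (Nat.lt_succ_self _), MvPolynomial.coeff_zero] at h1
  rw [h1, map_zero]

/-- the formal inverse function theorem, in the form of ideals -/
theorem exists_algEquiv (ha : ∀ i, constantCoeff (a i) = 0)
    (hJ : ∀ i, (X i : MvPowerSeries σ R) ∈ Ideal.span (Set.range a)) :
    ∃ e : MvPowerSeries σ R ≃ₐ[R] MvPowerSeries σ R, ∀ i, e (X i) = a i := by
  have hs := substAlgHom_surjective ha hJ
  refine ⟨AlgEquiv.ofBijective (substAlgHom (R := R) (hasSubst_of_constantCoeff_zero ha))
    ⟨substAlgHom_injective ha hs, hs⟩, fun i => ?_⟩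
  rw [AlgEquiv.ofBijective_apply, substAlgHom_X]

/-- cube roots of `1 + z` -/
theorem exists_cube_root (h3 : IsUnit (3 : R)) {z : MvPowerSeries σ R}
    (hz : constantCoeff z = 0) :
    ∃ w : MvPowerSeries σ R, w ^ 3 = 1 + z ∧ constantCoeff w = 1 := by
  have hAC : IsAdicComplete (J σ R) (MvPowerSeries σ R) := inferInstance
  have hH : HenselianRing (MvPowerSeries σ R) (J σ R) := IsAdicComplete.henselianRing _ _
  rcases subsingleton_or_nontrivial R with hR | hR
  · exact ⟨0, by ext; exact Subsingleton.elim _ _, Subsingleton.elim _ _⟩
  obtain ⟨w, hw, hw1⟩ := hH.is_henselian (Polynomial.X ^ 3 - Polynomial.C (1 + z))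
    (Polynomial.monic_X_pow_sub_C _ (by norm_num)) 1 (by
      rw [mem_J_iff]
      simp [hz]) (by
      have : Polynomial.eval 1 (Polynomial.derivative
          (Polynomial.X ^ 3 - Polynomial.C (1 + z) : Polynomial (MvPowerSeries σ R))) = 3 := by
        simp
        norm_num
      rw [this]
      apply IsUnit.map
      have h4 : (3 : MvPowerSeries σ R) = C (3 : R) :=
        (map_ofNat (C : R →+* MvPowerSeries σ R) 3).symm
      rw [h4]
      exact h3.map _)
  refine ⟨w, ?_, ?_⟩
  · have := hw
    rw [Polynomial.IsRoot.def] at this
    simp only [Polynomial.eval_sub, Polynomial.eval_pow, Polynomial.eval_X,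
      Polynomial.eval_C] at this
    exact sub_eq_zero.1 this
  · have := mem_J_iff.1 hw1
    rw [map_sub, map_one] at this
    exact sub_eq_zero.1 this

end K753.InvFun
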