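import Groth.Agent.KumFam.K753.Squares

/-!
# Kernels of the vector fields on the two charts of the product of cuspidal curves
-/

set_option autoImplicit false
universe u

namespace K753.Kernel

open MvPolynomial K753.Squares

variable {R : Type u} [CommRing R]

theorem E_mem_adjoin (S : Subalgebra R (MvPolynomial (Fin 2) R))
    (h0 : (X 0 : MvPolynomial (Fin 2) R) ^ 2 ∈ S) (h1 : (X 1 : MvPolynomial (Fin 2) R) ^ 2 ∈ S)
    (p : MvPolynomial (Fin 2) R) : E p ∈ S := by
  induction p using MvPolynomial.induction_on with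
  | C c => rw [E_C]; exact S.algebraMap_mem c
  | add f g hf hg => rw [map_add]; exact S.add_mem hf hg
  | mul_X f i hf =>
    rw [map_mul, E_X]
    refine S.mul_mem hf ?_
    fin_cases i
    · exact h0
    · exact h1

/-- elements of `R[u², u³, v², v³]` -/
theorem exists_cusp_decomp {a : MvPolynomial (Fin 2) R}
    (ha : a ∈ Algebra.adjoin R
      ({X 0 ^ 2, X 0 ^ 3, X 1 ^ 2, X 1 ^ 3} : Set (MvPolynomial (Fin 2) R))) :
    ∃ p q r s : MvPolynomial (Fin 2) R,
      a = E p + E q * X 0 ^ 3 + E r * X 1 ^ 3 + E s * (X 0 ^ 3 * X 1 ^ 3) := by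
  induction ha using Algebra.adjoin_induction with
  | mem x hx =>
    simp only [Set.mem_insert_iff, Set.mem_singleton_iff] at hx
    rcases hx with rfl | rfl | rfl | rfl
    · exact ⟨X 0, 0, 0, 0, by simp⟩
    · exact ⟨0, 1, 0, 0, by simp⟩
    · exact ⟨X 1, 0, 0, 0, by simp⟩
    · exact ⟨0, 0, 1, 0, by simp⟩
  | algebraMap r => exact ⟨C r, 0, 0, 0, by simp⟩
  | add x y _ _ hx hy =>
    obtain ⟨p, q, r, s, h⟩ := hx
    obtain ⟨p', q', r', s', h'⟩ := hy
    refine ⟨p + p', q + q', r + r', s + s', ?_⟩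
    rw [h, h']
    simp only [map_add]
    ring
  | mul x y _ _ hx hy =>
    obtain ⟨p, q, r, s, h⟩ := hx
    obtain ⟨p', q', r', s', h'⟩ := hy
    refine ⟨p * p' + q * q' * X 0 ^ 3 + r * r' * X 1 ^ 3 + s * s' * (X 0 ^ 3 * X 1 ^ 3),
      p * q' + q * p' + (r * s' + s * r') * X 1 ^ 3,
      p * r' + r * p' + (q * s' + s * q') * X 0 ^ 3,
      p * s' + s * p' + q * r' + r * q', ?_⟩
    rw [h, h']
    simp only [map_add, map_mul, map_pow, E_X]
    ring

variable [CharP R 2]

/-- the derivation in the basis `1, u³, v³, u³v³` -/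
theorem derivation_cusp (D : Derivation R (MvPolynomial (Fin 2) R) (MvPolynomial (Fin 2) R))
    {A0 A1 B : MvPolynomial (Fin 2) R} (h0 : D (X 0) = E A0 + E B * X 0)
    (h1 : D (X 1) = E A1 + E B * X 1) (p q r s : MvPolynomial (Fin 2) R) :
    D (E p + E q * X 0 ^ 3 + E r * X 1 ^ 3 + E s * (X 0 ^ 3 * X 1 ^ 3)) =
      E (X 0 * q * A0 + X 1 * r * A1) + E (X 0 * (q * B + X 1 * s * A1)) * X 0 +
        E (X 1 * (r * B + X 0 * s * A0)) * X 1 + E 0 * (X 0 * X 1) := by
  have h2 := two_eq_zero (R := R)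
  simp only [map_add, Derivation.leibniz, derivation_E, Derivation.leibniz_pow, h0, h1, map_mul,
    E_X, map_zero, smul_eq_mul, nsmul_eq_mul]
  push_cast
  simp only [zero_mul, mul_zero]
  linear_combination
    (E q * X 0 ^ 2 * (E A0 + E B * X 0) + E r * X 1 ^ 2 * (E A1 + E B * X 1) +
      E s * (X 0 ^ 3 * (X 1 ^ 2 * (E A1 + E B * X 1)) +
        X 1 ^ 3 * (X 0 ^ 2 * (E A0 + E B * X 0))) + E s * X 0 ^ 3 * X 1 ^ 3 * E B) * h2

/-- the derivation in the basis `1, x, y, xy` -/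
theorem derivation_smooth (D : Derivation R (MvPolynomial (Fin 2) R) (MvPolynomial (Fin 2) R))
    {A0 A1 B : MvPolynomial (Fin 2) R} (h0 : D (X 0) = E A0 + E B * X 0)
    (h1 : D (X 1) = E A1 + E B * X 1) (p q r s : MvPolynomial (Fin 2) R) :
    D (E p + E q * X 0 + E r * X 1 + E s * (X 0 * X 1)) =
      E (q * A0 + r * A1) + E (q * B + s * A1) * X 0 +
        E (r * B + s * A0) * X 1 + E 0 * (X 0 * X 1) := by
  have h2 := two_eq_zero (R := R)
  simp only [map_add, Derivation.leibniz, derivation_E, h0, h1, map_mul,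
    map_zero, smul_eq_mul, mul_zero]
  linear_combination (E s * E B * (X 0 * X 1)) * h2

end K753.Kernel
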