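import Groth.Agent.S1525
import Groth.Agent.S0036
import Groth.Agent.S0037
import Groth.Agent.S0042
import Groth.Agent.S0485
import Groth.Agent.CycB.DegSky
import Groth.Agent.Ega3B.RpushAbCmp
import Groth.Agent.VarietyA.StalkCrit
import Groth.Agent.CurvesB.UnitCoh

/-!
# `R¹π_* O_X = 0` iff `χ(O_X) = χ(O_Y)` for a morphism which is finite off finitely many closed points

`isZero_iff_euler_eq`: let `π : X ⟶ Y` be a morphism of proper schemes over a field `k` with
`π_* O_X ≅ O_Y`, whose fibres are finite off a finite set `Z` of closed points and of dimension at most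
one over `Z`.  Then `R¹π_* O_X = 0` iff `χ(X, O_X) = χ(Y, O_Y)`.
-/

set_option autoImplicit false
universe u

open CategoryTheory CategoryTheory.Limits AlgebraicGeometry TopologicalSpace Opposite

namespace K753.PointRes

open Groth.Agent

variable {X Y : Scheme.{u}}

theorem subsingleton_stalk (f : X ⟶ Y) [HasInjectiveResolutions X.Modules] (M : X.Modules) (p : ℕ)
    (y : Y) (h : IsZero (TopCat.Presheaf.stalk ((Coh.RpushAb f p).obj (Coh.toAb M)).obj y)) :
    Subsingleton (((Coh.Rpush f p).obj M).presheaf.stalk y) := by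
  obtain ⟨e⟩ := Ega3B.RpushAbCmp.nonempty_toAb_Rpush_iso f M p
  have e' : (Coh.toAb ((Coh.Rpush f p).obj M)).obj ≅ ((Coh.RpushAb f p).obj (Coh.toAb M)).obj :=
    (sheafToPresheaf _ _).mapIso e
  have e'' := (TopCat.Presheaf.stalkFunctor AddCommGrpCat.{u} y).mapIso e'
  have h1 : IsZero (TopCat.Presheaf.stalk (Coh.toAb ((Coh.Rpush f p).obj M)).obj y) :=
    h.of_iso e''
  exact AddCommGrpCat.subsingleton_of_isZero h1

/-- the residue field of a closed point of a scheme of finite type over a field is finite -/
theorem residueFieldMap_finite {k : Type u} [Field k] {S : Scheme.{u}}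
    (c : S ⟶ Spec (CommRingCat.of k)) [LocallyOfFiniteType c] (s : S) (hs : IsClosed ({s} : Set S)) :
    (c.residueFieldMap s).hom.Finite := by
  have h1 := isClosed_singleton_iff_isClosedImmersion.1 hs
  have h2 : IsFinite (S.fromSpecResidueField s ≫ c) :=
    isFinite_iff_locallyOfFiniteType_of_jacobsonSpace.2 inferInstance
  rw [← Scheme.Hom.SpecMap_residueFieldMap_fromSpecResidueField] at h2
  have h3 : IsFinite (Spec.map (c.residueFieldMap s)) := IsFinite.of_comp _ ((Spec (CommRingCat.of k)).fromSpecResidueField (c s))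
  exact (IsFinite.SpecMap_iff _).1 h3

theorem residueDegree_pos {k : Type u} [Field k] {S : Scheme.{u}}
    (c : S ⟶ Spec (CommRingCat.of k)) [LocallyOfFiniteType c] (s : S) (hs : IsClosed ({s} : Set S)) :
    0 < c.residueDegree s := by
  have h := residueFieldMap_finite c s hs
  let _ := (c.residueFieldMap s).hom.toAlgebra
  have : Module.Finite ((Spec (CommRingCat.of k)).residueField (c s)) (S.residueField s) := h
  exact Module.finrank_pos

section Main

variable (k : Type u) [Field k] [X.Over (Spec (CommRingCat.of k))]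
  [Y.Over (Spec (CommRingCat.of k))] [IsProper (X ↘ Spec (CommRingCat.of k))]
  [IsProper (Y ↘ Spec (CommRingCat.of k))]

/-- a coherent module supported at finitely many closed points vanishes iff its Euler characteristic
does -/
theorem isZero_iff_euler_eq_zero (Q : Y.Modules) (hQ : Coh.IsCoh Q)
    {Z : Set Y} (hZ : Z.Finite) (hc : ∀ y ∈ Z, IsClosed ({y} : Set Y))
    (hM : ∀ y, y ∉ Z → Subsingleton (Q.presheaf.stalk y)) :
    IsZero Q ↔ Curv2.euler k Y Q = 0 := by
  classical
  have : IsLocallyNoetherian Y :=
    LocallyOfFiniteType.isLocallyNoetherian (Y ↘ (Spec (CommRingCat.of k)))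
  constructor
  · intro h
    exact VarietyA.LerayEuler.euler_eq_zero_of_isZero k Y h
  · intro h
    have hfin : ∀ y ∈ Z, ((Y ↘ Spec (CommRingCat.of k)).residueFieldMap y).hom.Finite :=
      fun y hy => residueFieldMap_finite _ y (hc y hy)
    rw [CycB.DegSky.euler_eq_sum k Y Q hQ hZ hc hM hfin] at h
    have hlen : ∀ y ∈ Z, Module.length (Y.presheaf.stalk y) (Q.presheaf.stalk y) ≠ ⊤ := by
      intro y hy
      refine (CycB.CohStalk.length_stalk_lt_top Q hQ y fun z hz hzy => ?_).ne
      have hzZ : z ∈ Z := by
        by_contra h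
        exact not_nontrivial_iff_subsingleton.mpr (hM z h) hz
      have h1 : y ∈ closure ({z} : Set Y) := specializes_iff_mem_closure.mp hzy
      rw [(hc z hzZ).closure_eq] at h1
      exact h1.symm
    rw [Finset.sum_eq_zero_iff_of_nonneg (fun i _ => by positivity)] at h
    rw [VarietyA.StalkCrit.isZero_iff_stalks]
    intro y
    by_cases hy : y ∈ Z
    · have h1 := h y (hZ.mem_toFinset.2 hy)
      have h2 : (0 : ℤ) < ((Y ↘ Spec (CommRingCat.of k)).residueDegree y : ℤ) := by
        exact_mod_cast residueDegree_pos _ y (hc y hy)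
      have h3 := (mul_eq_zero.1 h1).resolve_left h2.ne'
      have h4 : (Module.length (Y.presheaf.stalk y) (Q.presheaf.stalk y)).toNat = 0 := by
        exact_mod_cast h3
      rw [ENat.toNat_eq_zero] at h4
      exact Module.length_eq_zero_iff.1 (h4.resolve_right (hlen y hy))
    · exact hM y hy

/-- Let `π : X ⟶ Y` be a morphism of proper schemes over a field `k` with
`π_* O_X ≅ O_Y`, whose fibres are finite off a finite set `Z` of closed points and of dimension at most
one over `Z`.  Then `R¹π_* O_X = 0` iff `χ(X, O_X) = χ(Y, O_Y)`. -/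
theorem isZero_iff_euler_eq (π : X ⟶ Y)
    (hπ : π ≫ (Y ↘ Spec (CommRingCat.of k)) = X ↘ Spec (CommRingCat.of k))
    (e : (Scheme.Modules.pushforward π).obj (Coh.structureModule X) ≅ Coh.structureModule Y)
    {Z : Set Y} (hZ : Z.Finite) (hc : ∀ y ∈ Z, IsClosed ({y} : Set Y))
    (hfin : ∀ y, y ∉ Z → (π.base ⁻¹' {y}).Finite)
    (hdim : ∀ y ∈ Z, topologicalKrullDim ↥(π.fiber y) ≤ 1) :
    IsZero ((Coh.RpushAb π 1).obj (Coh.toAb (Coh.structureModule X))) ↔
      Curv2.euler k X (Coh.structureModule X) = Curv2.euler k Y (Coh.structureModule Y) := by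
  have hEI : EnoughInjectives X.Modules := S0485.result _ X.ringCatSheaf
  have hIR : HasInjectiveResolutions X.Modules := inferInstance
  have : IsLocallyNoetherian Y :=
    LocallyOfFiniteType.isLocallyNoetherian (Y ↘ (Spec (CommRingCat.of k)))
  have hπp : IsProper π := by
    have h1 : IsProper (π ≫ (Y ↘ Spec (CommRingCat.of k))) := by rw [hπ]; infer_instance
    exact IsProper.of_comp π (Y ↘ Spec (CommRingCat.of k))
  have hcoh : Coh.IsCoh (Coh.structureModule X) := CurvesB.UnitCoh.isCoh_structureModule X
  have hst : ∀ (p : ℕ) (_ : 0 < p) (y : Y), y ∉ Z →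
      Subsingleton (((Coh.Rpush π p).obj (Coh.structureModule X)).presheaf.stalk y) :=
    fun p hp y hy => subsingleton_stalk π _ p y
      (S0037.result π y (hfin y hy) (Coh.structureModule X) hcoh p hp)
  have hst2 : ∀ (p : ℕ) (_ : 1 < p) (y : Y), y ∈ Z →
      Subsingleton (((Coh.Rpush π p).obj (Coh.structureModule X)).presheaf.stalk y) :=
    fun p hp y hy => subsingleton_stalk π _ p y
      (S0042.result π y 1 (hdim y hy) (Coh.structureModule X) hcoh p hp)
  have hz2 : ∀ p : ℕ, 1 < p → IsZero ((Coh.Rpush π p).obj (Coh.structureModule X)) := by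
    intro p hp
    rw [VarietyA.StalkCrit.isZero_iff_stalks]
    intro y
    by_cases hy : y ∈ Z
    · exact hst2 p hp y hy
    · exact hst p (by omega) y hy
  have h0 : Curv2.euler k Y ((Coh.Rpush π 0).obj (Coh.structureModule X)) =
      Curv2.euler k Y (Coh.structureModule Y) := by
    have e0 : (Coh.Rpush π 0).obj (Coh.structureModule X) ≅
        (Scheme.Modules.pushforward π).obj (Coh.structureModule X) :=
      (Scheme.Modules.pushforward π).rightDerivedZeroIsoSelf.app _
    exact VarietyA.LerayEuler.euler_congr k Y (e0 ≪≫ e)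
  have h1 : Curv2.euler k X (Coh.structureModule X) =
      Curv2.euler k Y (Coh.structureModule Y) -
        Curv2.euler k Y ((Coh.Rpush π 1).obj (Coh.structureModule X)) := by
    rw [S1525.result k Y X π hπ (Coh.structureModule X) hcoh]
    rw [finsum_eq_sum_of_support_subset (s := Finset.range 2)]
    · rw [Finset.sum_range_succ, Finset.sum_range_one, h0]
      ring
    · intro n hn
      rw [Finset.coe_range, Set.mem_Iio]
      by_contra h
      apply hn
      change (-1 : ℤ) ^ n * Curv2.euler k Y ((Coh.Rpush π n).obj (Coh.structureModule X)) = 0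
      rw [VarietyA.LerayEuler.euler_eq_zero_of_isZero k Y (hz2 n (by omega)), mul_zero]
  rw [Ega3B.RpushAbCmp.isZero_RpushAb_iff,
    isZero_iff_euler_eq_zero k _ (S0036.result π (Coh.structureModule X) hcoh 1) hZ hc
      (hst 1 one_pos), h1]
  constructor
  · intro h
    rw [h, sub_zero]
  · intro h
    linarith

end Main

end K753.PointRes
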