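import Groth.Agent.KumFam.K753.Squares

/-!
# The presentation `R[a, b, c] / (c² + G) = R[u², v², Γ]`
-/

set_option autoImplicit false
universe u

namespace K753.Presentation

open MvPolynomial K753.Squares

variable {R : Type u} [CommRing R]

/-- the inclusion `R[a, b] → R[a, b, c]` -/
noncomputable abbrev ι : MvPolynomial (Fin 2) R →ₐ[R] MvPolynomial (Fin 3) R :=
  MvPolynomial.aeval ![X 0, X 1]

theorem ι_X0 : ι (X 0 : MvPolynomial (Fin 2) R) = X 0 := by simp [ι]

theorem ι_X1 : ι (X 1 : MvPolynomial (Fin 2) R) = X 1 := by simp [ι]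

theorem ι_C (r : R) : ι (C r : MvPolynomial (Fin 2) R) = C r := by
  rw [ι, aeval_C]; rfl

theorem aeval_ι (Γ : MvPolynomial (Fin 2) R) (p : MvPolynomial (Fin 2) R) :
    aeval (R := R) (S₁ := MvPolynomial (Fin 2) R) ![X 0 ^ 2, X 1 ^ 2, Γ] (ι p) = E p := by
  induction p using MvPolynomial.induction_on with
  | C c => rw [ι_C, E_C, aeval_C]; rfl
  | add f g hf hg => rw [map_add, map_add, map_add, hf, hg]
  | mul_X f i hf =>
    rw [map_mul, map_mul, map_mul, hf, E_X]
    fin_cases i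
    · simp
    · simp

theorem exists_normal_form (G : MvPolynomial (Fin 2) R) (p : MvPolynomial (Fin 3) R) :
    ∃ (p0 p1 : MvPolynomial (Fin 2) R) (z : MvPolynomial (Fin 3) R),
      p = ι p0 + ι p1 * X 2 + z * (X 2 ^ 2 + ι G) := by
  induction p using MvPolynomial.induction_on with
  | C c => exact ⟨C c, 0, 0, by simp⟩
  | add f g hf hg =>
    obtain ⟨p0, p1, z, h⟩ := hf
    obtain ⟨p0', p1', z', h'⟩ := hg
    refine ⟨p0 + p0', p1 + p1', z + z', ?_⟩
    rw [h, h']
    simp only [map_add]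
    ring
  | mul_X f i hf =>
    obtain ⟨p0, p1, z, h⟩ := hf
    fin_cases i
    · refine ⟨p0 * X 0, p1 * X 0, z * X 0, ?_⟩
      rw [h]
      simp only [map_mul, ι_X0, Fin.zero_eta]
      ring
    · refine ⟨p0 * X 1, p1 * X 1, z * X 1, ?_⟩
      rw [h]
      simp only [map_mul, ι_X1, Fin.mk_one]
      ring
    · refine ⟨-(p1 * G), p0, z * X 2 + ι p1, ?_⟩
      rw [h]
      simp only [map_mul, map_neg, Fin.reduceFinMk]
      ring

theorem ker_eq {q r s G Γ : MvPolynomial (Fin 2) R} (hs : ∀ p, p * s = 0 → p = 0)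
    (hΓ : Γ = E q * X 0 + E r * X 1 + E s * (X 0 * X 1)) (hG : Γ ^ 2 + E G = 0) :
    RingHom.ker (aeval (R := R) (S₁ := MvPolynomial (Fin 2) R) ![X 0 ^ 2, X 1 ^ 2, Γ]) =
      Ideal.span {X 2 ^ 2 + ι G} := by
  have hF : aeval (R := R) (S₁ := MvPolynomial (Fin 2) R) ![X 0 ^ 2, X 1 ^ 2, Γ]
      (X 2 ^ 2 + ι G) = 0 := by
    rw [map_add, aeval_ι, map_pow, aeval_X]
    exact hG
  apply le_antisymm
  · intro p hp
    rw [RingHom.mem_ker] at hp
    obtain ⟨p0, p1, z, rfl⟩ := exists_normal_form G p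
    rw [map_add, map_add, map_mul, map_mul, aeval_ι, aeval_ι, hF, mul_zero, add_zero,
      aeval_X] at hp
    have h1 : E p0 + E (p1 * q) * X 0 + E (p1 * r) * X 1 + E (p1 * s) * (X 0 * X 1) = 0 := by
      rw [← hp]
      change _ = E p0 + E p1 * Γ
      rw [hΓ]
      simp only [map_mul]
      ring
    obtain ⟨h2, -, -, h3⟩ := decomp_eq_zero h1
    rw [h2, hs _ h3, Ideal.mem_span_singleton]
    simp
  · rw [Ideal.span_singleton_le_iff_mem, RingHom.mem_ker]
    exact hF

end K753.Presentation
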