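import Mathlib.Algebra.MvPolynomial.Expand
import Mathlib.Algebra.MvPolynomial.Derivation
import Mathlib.Algebra.CharP.Algebra
import Mathlib.Tactic

/-!
# `R[u, v]` as a free module of rank four over `R[u², v²]`

`E = expand 2 : R[u, v] → R[u, v]`, `u ↦ u²`, `v ↦ v²`; every polynomial is uniquely
`E p + E q * u + E r * v + E s * (u * v)`.
-/

set_option autoImplicit false
universe u

namespace K753.Squares

open MvPolynomial

variable {R : Type u} [CommRing R]

/-- the substitution `u ↦ u²`, `v ↦ v²` -/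
noncomputable abbrev E : MvPolynomial (Fin 2) R →ₐ[R] MvPolynomial (Fin 2) R :=
  MvPolynomial.expand 2

theorem E_X (i : Fin 2) : E (X i : MvPolynomial (Fin 2) R) = X i ^ 2 := expand_X 2 i

theorem E_C (r : R) : E (C r : MvPolynomial (Fin 2) R) = C r := expand_C 2 r

theorem exists_decomp (a : MvPolynomial (Fin 2) R) :
    ∃ p q r s : MvPolynomial (Fin 2) R,
      a = E p + E q * X 0 + E r * X 1 + E s * (X 0 * X 1) := by
  induction a using MvPolynomial.induction_on with
  | C c => exact ⟨C c, 0, 0, 0, by simp⟩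
  | add f g hf hg =>
    obtain ⟨p, q, r, s, h⟩ := hf
    obtain ⟨p', q', r', s', h'⟩ := hg
    refine ⟨p + p', q + q', r + r', s + s', ?_⟩
    rw [h, h']
    simp only [map_add]
    ring
  | mul_X f i hf =>
    obtain ⟨p, q, r, s, h⟩ := hf
    fin_cases i
    · refine ⟨q * X 0, p, s * X 0, r, ?_⟩
      rw [h]
      simp only [map_mul, E_X, Fin.zero_eta]
      ring
    · refine ⟨r * X 1, s * X 1, p, q, ?_⟩
      rw [h]
      simp only [map_mul, E_X, Fin.mk_one]
      ring

theorem coeff_E_mul_of_ne (q : MvPolynomial (Fin 2) R) (m e e' : Fin 2 →₀ ℕ) (i : Fin 2)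
    (h : (e i = 0 ∧ e' i = 1) ∨ (e i = 1 ∧ e' i = 0)) :
    coeff (2 • m + e) (E q * monomial e' 1) = 0 := by
  rw [coeff_mul_monomial', mul_one]
  split_ifs with hle
  · apply coeff_expand_of_not_dvd (i := i)
    have h1 := hle i
    simp only [Finsupp.coe_tsub, Finsupp.coe_add, Finsupp.coe_smul, Pi.sub_apply, Pi.add_apply,
      Pi.smul_apply, smul_eq_mul] at h1 ⊢
    omega
  · rfl

theorem coeff_E_mul_self (q : MvPolynomial (Fin 2) R) (m e : Fin 2 →₀ ℕ) :
    coeff (2 • m + e) (E q * monomial e 1) = coeff m q := by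
  rw [coeff_mul_monomial, mul_one, coeff_expand_smul 2 two_ne_zero]

/-- uniqueness of the decomposition -/
theorem decomp_eq_zero {p q r s : MvPolynomial (Fin 2) R}
    (h : E p + E q * X 0 + E r * X 1 + E s * (X 0 * X 1) = 0) :
    p = 0 ∧ q = 0 ∧ r = 0 ∧ s = 0 := by
  have h' : E p * monomial 0 1 + E q * monomial (Finsupp.single 0 1) 1 +
      E r * monomial (Finsupp.single 1 1) 1 +
      E s * monomial (Finsupp.single 0 1 + Finsupp.single 1 1) 1 = 0 := by
    have h1 : (monomial (Finsupp.single 0 1 + Finsupp.single 1 1) 1 : MvPolynomial (Fin 2) R) =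
        X 0 * X 1 := by
      rw [X, X, monomial_mul, one_mul]
    rw [h1]
    have h2 : (monomial 0 1 : MvPolynomial (Fin 2) R) = 1 := rfl
    rw [h2, mul_one]
    exact h
  have hc : ∀ m e : Fin 2 →₀ ℕ, coeff (2 • m + e) (E p * monomial 0 1) +
      coeff (2 • m + e) (E q * monomial (Finsupp.single 0 1) 1) +
      coeff (2 • m + e) (E r * monomial (Finsupp.single 1 1) 1) +
      coeff (2 • m + e) (E s * monomial (Finsupp.single 0 1 + Finsupp.single 1 1) 1) = 0 := by
    intro m e
    rw [← coeff_add, ← coeff_add, ← coeff_add, h', coeff_zero]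
  refine ⟨?_, ?_, ?_, ?_⟩ <;> ext m <;> rw [coeff_zero]
  · have := hc m 0
    rwa [coeff_E_mul_self, coeff_E_mul_of_ne _ _ _ _ 0 (by simp),
      coeff_E_mul_of_ne _ _ _ _ 1 (by simp), coeff_E_mul_of_ne _ _ _ _ 0 (by simp), add_zero,
      add_zero, add_zero] at this
  · have := hc m (Finsupp.single 0 1)
    rwa [coeff_E_mul_self, coeff_E_mul_of_ne _ _ _ _ 0 (by simp),
      coeff_E_mul_of_ne _ _ _ _ 0 (by simp), coeff_E_mul_of_ne _ _ _ _ 1 (by simp), add_zero,
      zero_add, add_zero] at this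
  · have := hc m (Finsupp.single 1 1)
    rwa [coeff_E_mul_self, coeff_E_mul_of_ne _ _ _ _ 1 (by simp),
      coeff_E_mul_of_ne _ _ _ _ 0 (by simp), coeff_E_mul_of_ne _ _ _ _ 0 (by simp), add_zero,
      zero_add, zero_add] at this
  · have := hc m (Finsupp.single 0 1 + Finsupp.single 1 1)
    rwa [coeff_E_mul_self, coeff_E_mul_of_ne _ _ _ _ 0 (by simp),
      coeff_E_mul_of_ne _ _ _ _ 1 (by simp), coeff_E_mul_of_ne _ _ _ _ 0 (by simp), zero_add,
      zero_add, zero_add] at this

/-- comparison of coefficients -/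
theorem decomp_inj {p q r s p' q' r' s' : MvPolynomial (Fin 2) R}
    (h : E p + E q * X 0 + E r * X 1 + E s * (X 0 * X 1) =
      E p' + E q' * X 0 + E r' * X 1 + E s' * (X 0 * X 1)) :
    p = p' ∧ q = q' ∧ r = r' ∧ s = s' := by
  have h1 : E (p - p') + E (q - q') * X 0 + E (r - r') * X 1 + E (s - s') * (X 0 * X 1) = 0 := by
    simp only [map_sub]
    linear_combination h
  obtain ⟨h1, h2, h3, h4⟩ := decomp_eq_zero h1
  exact ⟨sub_eq_zero.1 h1, sub_eq_zero.1 h2, sub_eq_zero.1 h3, sub_eq_zero.1 h4⟩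

theorem two_eq_zero [CharP R 2] : (2 : MvPolynomial (Fin 2) R) = 0 := by
  have h : ((2 : ℕ) : R) = 0 := CharP.cast_eq_zero R 2
  calc (2 : MvPolynomial (Fin 2) R) = C ((2 : ℕ) : R) := by rw [map_natCast]; rfl
    _ = 0 := by rw [h, map_zero]

/-- an `R`-derivation of `R[u, v]` kills `R[u², v²]` in characteristic two -/
theorem derivation_E [CharP R 2]
    (D : Derivation R (MvPolynomial (Fin 2) R) (MvPolynomial (Fin 2) R))
    (a : MvPolynomial (Fin 2) R) : D (E a) = 0 := by
  induction a using MvPolynomial.induction_on with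
  | C c => rw [E_C]; exact D.map_algebraMap c
  | add f g hf hg => rw [map_add, map_add, hf, hg, add_zero]
  | mul_X f i hf =>
    rw [map_mul, E_X, Derivation.leibniz, hf, smul_zero, add_zero, Derivation.leibniz_pow]
    have h2 := two_eq_zero (R := R)
    rw [two_nsmul, ← two_mul, h2, zero_mul, smul_zero]

/-- multiplication by `X 0` is injective -/
theorem X_mul_cancel {i : Fin 2} {p q : MvPolynomial (Fin 2) R} (h : X i * p = X i * q) :
    p = q := by
  ext m
  have := congrArg (coeff (Finsupp.single i 1 + m)) h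
  simpa [coeff_X_mul] using this

end K753.Squares
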